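import Mathlib.GroupTheory.Nilpotent
import Mathlib.GroupTheory.PGroup
import Mathlib.Algebra.BigOperators.Group.Finset.Basic
import Mathlib.Order.Atoms
import Mathlib.Data.Finset.Lattice.Fold
import Mathlib.Data.Complex.Basic

/-!
# Alternating sums over normal chains of `p`-subgroups

For a nontrivial `p`-element `x`, the normal chains normalised by `x` cancel in pairs
(insert or erase the subgroup generated by the largest member avoiding `x` and the conjugates
of `x` under the top member), leaving only the chain `{⟨x⟩}`.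
-/

set_option autoImplicit false

namespace CfsgLib.PChains

open scoped Classical

variable {G : Type*} [Group G] {p : ℕ}

/-- Nonempty chains of nontrivial `p`-subgroups, every member normal in the largest. -/
def normalChains (p : ℕ) (G : Type*) [Group G] : Set (Finset (Subgroup G)) :=
  {s | s.Nonempty ∧ (∀ Q ∈ s, ∀ R ∈ s, Q ≤ R ∨ R ≤ Q) ∧ (∀ Q ∈ s, Q ≠ ⊥ ∧ IsPGroup p Q) ∧
    ∃ T ∈ s, ∀ Q ∈ s, Q ≤ T ∧ T ≤ Subgroup.normalizer ((Q : Subgroup G) : Set G)}

/-- The stabilizer of a chain. -/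
def chainNormalizer (s : Finset (Subgroup G)) : Subgroup G :=
  ⨅ Q ∈ s, Subgroup.normalizer ((Q : Subgroup G) : Set G)

theorem mem_chainNormalizer {s : Finset (Subgroup G)} {z : G} :
    z ∈ chainNormalizer s ↔ ∀ Q ∈ s, z ∈ Subgroup.normalizer ((Q : Subgroup G) : Set G) := by
  simp only [chainNormalizer, Subgroup.mem_iInf]

theorem chainNormalizer_insert (R : Subgroup G) (s : Finset (Subgroup G)) :
    chainNormalizer (insert R s) = Subgroup.normalizer (R : Set G) ⊓ chainNormalizer s := by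
  ext z
  simp [mem_chainNormalizer, Subgroup.mem_inf]

/-- The conjugates of `x` under `T`. -/
def conjSet (T : Subgroup G) (x : G) : Set G := {z | ∃ t ∈ T, z = t * x * t⁻¹}

/-- The members avoiding `x`, joined. -/
noncomputable def lowPart (x : G) (s : Finset (Subgroup G)) : Subgroup G :=
  (s.filter fun Q => x ∉ Q).sup id

/-- The subgroup inserted or erased. -/
noncomputable def pivot (x : G) (s : Finset (Subgroup G)) : Subgroup G :=
  lowPart x s ⊔ Subgroup.closure (conjSet (s.sup id) x)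

theorem self_mem_closure_conjSet (T : Subgroup G) (x : G) :
    x ∈ Subgroup.closure (conjSet T x) :=
  Subgroup.subset_closure ⟨1, T.one_mem, by simp⟩

theorem self_mem_pivot (x : G) (s : Finset (Subgroup G)) : x ∈ pivot x s :=
  Subgroup.mem_sup_right (self_mem_closure_conjSet _ x)

theorem closure_conjSet_le {T Q : Subgroup G} {x : G} (hx : x ∈ Q)
    (hT : T ≤ Subgroup.normalizer (Q : Set G)) : Subgroup.closure (conjSet T x) ≤ Q := by
  rw [Subgroup.closure_le]
  rintro _ ⟨t, ht, rfl⟩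
  exact (Subgroup.mem_normalizer_iff.1 (hT ht) x).1 hx

theorem sup_le_normalizer_of_gen {A : Subgroup G} {S : Set G} {z : G}
    (hA : z ∈ Subgroup.normalizer (A : Set G)) (hS : ∀ a ∈ S, z * a * z⁻¹ ∈ S)
    (hS' : ∀ a ∈ S, z⁻¹ * a * z ∈ S) :
    z ∈ Subgroup.normalizer ((A ⊔ Subgroup.closure S : Subgroup G) : Set G) := by
  have key : ∀ w : G, w ∈ Subgroup.normalizer (A : Set G) → (∀ a ∈ S, w * a * w⁻¹ ∈ S) →
      ∀ u ∈ A ⊔ Subgroup.closure S, w * u * w⁻¹ ∈ A ⊔ Subgroup.closure S := by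
    intro w hw hwS u hu
    have h : A ⊔ Subgroup.closure S ≤
        (A ⊔ Subgroup.closure S).comap (MulAut.conj w).toMonoidHom := by
      refine sup_le ?_ ((Subgroup.closure_le _).2 ?_)
      · exact fun a ha => Subgroup.mem_sup_left ((Subgroup.mem_normalizer_iff.1 hw a).1 ha)
      · exact fun a ha => Subgroup.mem_sup_right (Subgroup.subset_closure (hwS a ha))
    simpa using h hu
  refine Subgroup.mem_normalizer_iff.2 fun u => ⟨key z hA hS u, fun hu => ?_⟩
  have := key z⁻¹ (inv_mem hA) (fun a ha => by simpa using hS' a ha) _ hu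
  simpa [mul_assoc] using this

theorem sup_id_eq_of_max {s : Finset (Subgroup G)} {T : Subgroup G} (hT : T ∈ s)
    (h : ∀ Q ∈ s, Q ≤ T) : s.sup id = T :=
  le_antisymm (Finset.sup_le h) (Finset.le_sup (f := id) hT)

theorem lowPart_eq_bot_or_mem {x : G} {s : Finset (Subgroup G)}
    (hs : ∀ Q ∈ s, ∀ R ∈ s, Q ≤ R ∨ R ≤ Q) :
    lowPart x s = ⊥ ∨ (lowPart x s ∈ s ∧ x ∉ lowPart x s) := by
  have key : ∀ t : Finset (Subgroup G), (∀ Q ∈ t, ∀ R ∈ t, Q ≤ R ∨ R ≤ Q) →
      t.sup id = ⊥ ∨ t.sup id ∈ t := by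
    intro t
    refine Finset.induction_on t (fun _ => Or.inl Finset.sup_empty) ?_
    intro a t ha ih hc
    rw [Finset.sup_insert, id_eq]
    rcases ih (fun Q hQ R hR => hc Q (Finset.mem_insert_of_mem hQ) R (Finset.mem_insert_of_mem hR))
      with h | h
    · right; rw [h, sup_bot_eq]; exact Finset.mem_insert_self _ _
    · right
      rcases hc a (Finset.mem_insert_self _ _) _ (Finset.mem_insert_of_mem h) with h' | h'
      · rw [sup_eq_right.2 h']; exact Finset.mem_insert_of_mem h
      · rw [sup_eq_left.2 h']; exact Finset.mem_insert_self _ _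
  rcases key (s.filter fun Q => x ∉ Q) (fun Q hQ R hR =>
    hs Q (Finset.mem_filter.1 hQ).1 R (Finset.mem_filter.1 hR).1) with h | h
  · exact Or.inl h
  · exact Or.inr (Finset.mem_filter.1 h)

theorem le_lowPart {x : G} {s : Finset (Subgroup G)} {Q : Subgroup G} (hQ : Q ∈ s) (hx : x ∉ Q) :
    Q ≤ lowPart x s :=
  Finset.le_sup (f := id) (Finset.mem_filter.2 ⟨hQ, hx⟩)

/-- A chain with top member `T`, normalised by `x`. -/
structure Setup (p : ℕ) (x : G) (s : Finset (Subgroup G)) (T : Subgroup G) : Prop where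
  comp : ∀ Q ∈ s, ∀ R ∈ s, Q ≤ R ∨ R ≤ Q
  grp : ∀ Q ∈ s, Q ≠ ⊥ ∧ IsPGroup p Q
  top_mem : T ∈ s
  le_top : ∀ Q ∈ s, Q ≤ T
  normal : ∀ Q ∈ s, T ≤ Subgroup.normalizer ((Q : Subgroup G) : Set G)
  x_mem : x ∈ chainNormalizer s

variable {x : G} {s : Finset (Subgroup G)} {T : Subgroup G}

theorem exists_setup (hs : s ∈ normalChains p G) (hx : x ∈ chainNormalizer s) :
    ∃ T, Setup p x s T := by
  obtain ⟨-, hc, hg, T, hT, hall⟩ := hs
  exact ⟨T, hc, hg, hT, fun Q hQ => (hall Q hQ).1, fun Q hQ => (hall Q hQ).2, hx⟩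

theorem Setup.mem_chains (h : Setup p x s T) : s ∈ normalChains p G :=
  ⟨⟨T, h.top_mem⟩, h.comp, h.grp, T, h.top_mem, fun Q hQ => ⟨h.le_top Q hQ, h.normal Q hQ⟩⟩

theorem Setup.sup_eq (h : Setup p x s T) : s.sup id = T := sup_id_eq_of_max h.top_mem h.le_top

theorem Setup.pivot_eq (h : Setup p x s T) :
    pivot x s = lowPart x s ⊔ Subgroup.closure (conjSet T x) := by
  rw [pivot, h.sup_eq]

theorem Setup.le_normalizer_lowPart (h : Setup p x s T) :
    T ≤ Subgroup.normalizer (lowPart x s : Set G) := by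
  rcases lowPart_eq_bot_or_mem (x := x) h.comp with e | ⟨e, -⟩
  · rw [e]
    intro z _
    exact Subgroup.mem_normalizer_iff.2 fun u => by simp
  · exact h.normal _ e

theorem Setup.not_mem_lowPart (h : Setup p x s T) (hx1 : x ≠ 1) : x ∉ lowPart x s := by
  rcases lowPart_eq_bot_or_mem (x := x) h.comp with e | ⟨-, e⟩
  · rwa [e, Subgroup.mem_bot]
  · exact e

theorem Setup.lowPart_le_top (h : Setup p x s T) : lowPart x s ≤ T :=
  Finset.sup_le fun Q hQ => h.le_top Q (Finset.mem_filter.1 hQ).1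

/-- Members through `x` contain the pivot. -/
theorem Setup.pivot_le (h : Setup p x s T) {Q : Subgroup G} (hQ : Q ∈ s) (hx : x ∈ Q) :
    pivot x s ≤ Q := by
  rw [h.pivot_eq]
  refine sup_le (Finset.sup_le fun A hA => ?_) (closure_conjSet_le hx (h.normal Q hQ))
  obtain ⟨hAs, hxA⟩ := Finset.mem_filter.1 hA
  exact (h.comp A hAs Q hQ).resolve_right fun hle => hxA (hle hx)

theorem Setup.comparable_pivot (h : Setup p x s T) {Q : Subgroup G} (hQ : Q ∈ s) :
    Q ≤ pivot x s ∨ pivot x s ≤ Q := by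
  by_cases hx : x ∈ Q
  · exact Or.inr (h.pivot_le hQ hx)
  · exact Or.inl ((le_lowPart hQ hx).trans le_sup_left)

theorem Setup.lowPart_eq_top (h : Setup p x s T) (hxT : x ∉ T) : lowPart x s = T :=
  le_antisymm h.lowPart_le_top (le_lowPart h.top_mem hxT)

theorem Setup.pivot_of_not_mem (h : Setup p x s T) (hxT : x ∉ T) :
    pivot x s = T ⊔ Subgroup.zpowers x := by
  rw [h.pivot_eq, h.lowPart_eq_top hxT]
  refine le_antisymm (sup_le le_sup_left ((Subgroup.closure_le _).2 ?_))
    (sup_le le_sup_left ?_)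
  · rintro _ ⟨t, ht, rfl⟩
    exact mul_mem (mul_mem (Subgroup.mem_sup_left ht)
      (Subgroup.mem_sup_right (Subgroup.mem_zpowers x))) (inv_mem (Subgroup.mem_sup_left ht))
  · rw [Subgroup.zpowers_le]
    exact Subgroup.mem_sup_right (self_mem_closure_conjSet _ x)

/-- The centralizer of `x` in the stabilizer of the chain normalises the pivot. -/
theorem Setup.inf_le_normalizer_pivot (h : Setup p x s T) :
    Subgroup.centralizer ({x} : Set G) ⊓ chainNormalizer s
      ≤ Subgroup.normalizer (pivot x s : Set G) := by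
  rintro z ⟨hzx, hzN⟩
  have hzx' : z * x = x * z := Subgroup.mem_centralizer_singleton_iff.1 hzx
  have hfix : z * x * z⁻¹ = x := by rw [hzx', mul_inv_cancel_right]
  have hfix' : z⁻¹ * x * z = x := by rw [mul_assoc, ← hzx', inv_mul_cancel_left]
  have hT := Subgroup.mem_normalizer_iff.1 (mem_chainNormalizer.1 hzN T h.top_mem)
  have hT' := Subgroup.mem_normalizer_iff.1
    (inv_mem (mem_chainNormalizer.1 hzN T h.top_mem))
  rw [h.pivot_eq]
  refine sup_le_normalizer_of_gen ?_ ?_ ?_
  · rcases lowPart_eq_bot_or_mem (x := x) h.comp with e | ⟨e, -⟩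
    · rw [e]; exact Subgroup.mem_normalizer_iff.2 fun u => by simp
    · exact mem_chainNormalizer.1 hzN _ e
  · rintro _ ⟨t, ht, rfl⟩
    refine ⟨z * t * z⁻¹, (hT t).1 ht, ?_⟩
    calc z * (t * x * t⁻¹) * z⁻¹
        = (z * t * z⁻¹) * (z * x * z⁻¹) * (z * t * z⁻¹)⁻¹ := by group
      _ = _ := by rw [hfix]
  · rintro _ ⟨t, ht, rfl⟩
    refine ⟨z⁻¹ * t * z, by simpa using (hT' t).1 ht, ?_⟩
    calc z⁻¹ * (t * x * t⁻¹) * z
        = (z⁻¹ * t * z) * (z⁻¹ * x * z) * (z⁻¹ * t * z)⁻¹ := by group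
      _ = _ := by rw [hfix']

theorem Setup.top_le_normalizer_pivot (h : Setup p x s T) :
    T ≤ Subgroup.normalizer (pivot x s : Set G) := by
  intro z hz
  rw [h.pivot_eq]
  refine sup_le_normalizer_of_gen (h.le_normalizer_lowPart hz) ?_ ?_
  · rintro _ ⟨t, ht, rfl⟩
    exact ⟨z * t, mul_mem hz ht, by group⟩
  · rintro _ ⟨t, ht, rfl⟩
    exact ⟨z⁻¹ * t, mul_mem (inv_mem hz) ht, by group⟩

/-- Inserting the pivot. -/
theorem Setup.insert_pivot (h : Setup p x s T) (hx : ∃ k : ℕ, orderOf x = p ^ k) (hx1 : x ≠ 1) :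
    ∃ T', Setup p x (insert (pivot x s) s) T' ∧
      pivot x (insert (pivot x s) s) = pivot x s := by
  set R := pivot x s with hR
  have hxR : x ∈ R := self_mem_pivot x s
  have hR1 : R ≠ ⊥ := fun e => hx1 (by rwa [e, Subgroup.mem_bot] at hxR)
  have hxN : x ∈ chainNormalizer (insert R s) := by
    rw [chainNormalizer_insert]
    exact ⟨Subgroup.le_normalizer hxR, h.x_mem⟩
  have hlow : lowPart x (insert R s) = lowPart x s := by
    unfold lowPart
    rw [Finset.filter_insert, if_neg (not_not.2 hxR)]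
  have hcomp : ∀ Q ∈ insert R s, ∀ R' ∈ insert R s, Q ≤ R' ∨ R' ≤ Q := by
    intro Q hQ R' hR'
    rcases Finset.mem_insert.1 hQ with rfl | hQ <;> rcases Finset.mem_insert.1 hR' with rfl | hR'
    · exact Or.inl le_rfl
    · exact (h.comparable_pivot hR').symm
    · exact h.comparable_pivot hQ
    · exact h.comp Q hQ R' hR'
  by_cases hxT : x ∈ T
  · have hRT : R ≤ T := h.pivot_le h.top_mem hxT
    refine ⟨T, ⟨hcomp, ?_, Finset.mem_insert_of_mem h.top_mem, ?_, ?_, hxN⟩, ?_⟩
    · intro Q hQ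
      rcases Finset.mem_insert.1 hQ with rfl | hQ
      · exact ⟨hR1, (h.grp T h.top_mem).2.to_le hRT⟩
      · exact h.grp Q hQ
    · intro Q hQ
      rcases Finset.mem_insert.1 hQ with rfl | hQ
      · exact hRT
      · exact h.le_top Q hQ
    · intro Q hQ
      rcases Finset.mem_insert.1 hQ with rfl | hQ
      · exact h.top_le_normalizer_pivot
      · exact h.normal Q hQ
    · rw [pivot, hlow, Finset.sup_insert, h.sup_eq, id_eq, sup_eq_right.2 hRT, hR, h.pivot_eq]
  · have hRe : R = T ⊔ Subgroup.zpowers x := h.pivot_of_not_mem hxT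
    have hTR : T ≤ R := hRe ▸ le_sup_left
    have hp : IsPGroup p R := by
      rw [hRe, sup_comm]
      obtain ⟨k, hk⟩ := hx
      refine IsPGroup.to_sup_of_normal_right' (IsPGroup.of_card (n := k) ?_)
        (h.grp T h.top_mem).2 ((Subgroup.zpowers_le).2 (mem_chainNormalizer.1 h.x_mem T h.top_mem))
      rw [Nat.card_zpowers, hk]
    refine ⟨R, ⟨hcomp, ?_, Finset.mem_insert_self _ _, ?_, ?_, hxN⟩, ?_⟩
    · intro Q hQ
      rcases Finset.mem_insert.1 hQ with rfl | hQ
      · exact ⟨hR1, hp⟩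
      · exact h.grp Q hQ
    · intro Q hQ
      rcases Finset.mem_insert.1 hQ with rfl | hQ
      · exact le_rfl
      · exact (h.le_top Q hQ).trans hTR
    · intro Q hQ
      rcases Finset.mem_insert.1 hQ with rfl | hQ
      · exact Subgroup.le_normalizer
      · rw [hRe]
        exact sup_le (h.normal Q hQ) ((Subgroup.zpowers_le).2 (mem_chainNormalizer.1 h.x_mem Q hQ))
    · rw [pivot, hlow, h.lowPart_eq_top hxT, Finset.sup_insert, h.sup_eq, id_eq,
        sup_eq_left.2 hTR]
      refine le_antisymm (sup_le hTR (closure_conjSet_le hxR Subgroup.le_normalizer)) ?_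
      nth_rw 1 [hRe]
      exact sup_le le_sup_left ((Subgroup.zpowers_le).2
        (Subgroup.mem_sup_right (self_mem_closure_conjSet _ x)))

/-- A normal closure generating a finite `p`-group: the generator already does. -/
theorem sup_zpowers_eq_top_member [Finite G] [Fact p.Prime] {T A : Subgroup G} (hT : IsPGroup p T)
    (hA : A ≤ T) (hxT : x ∈ T) (hgen : A ⊔ Subgroup.closure (conjSet T x) = T) :
    A ⊔ Subgroup.zpowers x = T := by
  set H : Subgroup G := A ⊔ Subgroup.zpowers x
  have hHT : H ≤ T := sup_le hA ((Subgroup.zpowers_le).2 hxT)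
  by_contra hne
  have hH' : H.subgroupOf T ≠ ⊤ := fun e => hne (le_antisymm hHT (Subgroup.subgroupOf_eq_top.1 e))
  obtain ⟨K, hK, hHK⟩ := (eq_top_or_exists_le_coatom (H.subgroupOf T)).resolve_left hH'
  haveI : Group.IsNilpotent T := hT.isNilpotent
  haveI : K.Normal := Subgroup.NormalizerCondition.normal_of_coatom K normalizerCondition_of_isNilpotent hK
  refine hK.1 (eq_top_iff.2 fun t _ => ?_)
  have hle : A ⊔ Subgroup.closure (conjSet T x) ≤ K.map T.subtype := by
    refine sup_le (fun a ha => ⟨⟨a, hA ha⟩, hHK (Subgroup.mem_sup_left ha), rfl⟩)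
      ((Subgroup.closure_le _).2 ?_)
    rintro _ ⟨u, hu, rfl⟩
    refine ⟨(⟨u, hu⟩ : T) * ⟨x, hxT⟩ * (⟨u, hu⟩ : T)⁻¹,
      Subgroup.Normal.conj_mem inferInstance _ ?_ _, rfl⟩
    exact hHK (Subgroup.mem_sup_right (Subgroup.mem_zpowers x))
  rw [hgen] at hle
  obtain ⟨u, hu, e⟩ := hle t.2
  rwa [← Subtype.ext (a1 := u) (a2 := t) e]

theorem pivot_singleton (x : G) (hx1 : x ≠ 1) :
    pivot x {Subgroup.zpowers x} = Subgroup.zpowers x := by
  rw [pivot, lowPart, Finset.filter_singleton, if_neg (not_not.2 (Subgroup.mem_zpowers x)),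
    Finset.sup_empty, bot_sup_eq, Finset.sup_singleton, id_eq]
  refine le_antisymm (closure_conjSet_le (Subgroup.mem_zpowers x) Subgroup.le_normalizer) ?_
  rw [Subgroup.zpowers_le]
  exact self_mem_closure_conjSet _ x

/-- Erasing the pivot. -/
theorem Setup.erase_pivot [Finite G] [Fact p.Prime] (h : Setup p x s T) (hx1 : x ≠ 1)
    (hR : pivot x s ∈ s) (hne : s ≠ {Subgroup.zpowers x}) :
    ∃ T', Setup p x (s.erase (pivot x s)) T' ∧
      pivot x (s.erase (pivot x s)) = pivot x s := by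
  set R := pivot x s with hR'
  have hxR : x ∈ R := self_mem_pivot x s
  have hlow : lowPart x (s.erase R) = lowPart x s := by
    unfold lowPart
    rw [Finset.filter_erase, Finset.erase_eq_of_notMem]
    exact fun hm => (Finset.mem_filter.1 hm).2 hxR
  have hxN : x ∈ chainNormalizer (s.erase R) := mem_chainNormalizer.2 fun Q hQ =>
    mem_chainNormalizer.1 h.x_mem Q (Finset.mem_of_mem_erase hQ)
  have hcomp : ∀ Q ∈ s.erase R, ∀ R' ∈ s.erase R, Q ≤ R' ∨ R' ≤ Q := fun Q hQ R' hR'' =>
    h.comp Q (Finset.mem_of_mem_erase hQ) R' (Finset.mem_of_mem_erase hR'')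
  have hgrp : ∀ Q ∈ s.erase R, Q ≠ ⊥ ∧ IsPGroup p Q := fun Q hQ =>
    h.grp Q (Finset.mem_of_mem_erase hQ)
  by_cases hRT : R = T
  · have hxT : x ∈ T := hRT ▸ hxR
    have hgen : lowPart x s ⊔ Subgroup.closure (conjSet T x) = T := by
      rw [← h.pivot_eq]; exact hRT
    have hT : lowPart x s ⊔ Subgroup.zpowers x = T :=
      sup_zpowers_eq_top_member (h.grp T h.top_mem).2 h.lowPart_le_top hxT hgen
    have hout : ∀ Q ∈ s.erase R, x ∉ Q := fun Q hQ hxQ =>
      Finset.ne_of_mem_erase hQ (le_antisymm (hRT ▸ h.le_top Q (Finset.mem_of_mem_erase hQ))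
        (h.pivot_le (Finset.mem_of_mem_erase hQ) hxQ))
    have hlow1 : lowPart x s ≠ ⊥ := by
      intro e
      refine hne (Finset.eq_singleton_iff_unique_mem.2 ?_)
      rw [e, bot_sup_eq] at hT
      refine ⟨hT ▸ h.top_mem, fun Q hQ => ?_⟩
      by_contra hQT
      have hQ' : Q ∈ s.erase R :=
        Finset.mem_erase.2 ⟨fun e' => hQT (e'.trans (hRT.trans hT.symm)), hQ⟩
      exact (h.grp Q hQ).1 (le_bot_iff.1 (e ▸ le_lowPart hQ (hout Q hQ')))
    obtain ⟨hmem, hxl⟩ := (lowPart_eq_bot_or_mem (x := x) h.comp).resolve_left hlow1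
    have hmem' : lowPart x s ∈ s.erase R :=
      Finset.mem_erase.2 ⟨fun e => hxl (e ▸ hxR), hmem⟩
    have hset : Setup p x (s.erase R) (lowPart x s) :=
      ⟨hcomp, hgrp, hmem', fun Q hQ => le_lowPart (Finset.mem_of_mem_erase hQ) (hout Q hQ),
        fun Q hQ => h.lowPart_le_top.trans (h.normal Q (Finset.mem_of_mem_erase hQ)), hxN⟩
    exact ⟨_, hset, by rw [hset.pivot_of_not_mem hxl, hT, hRT]⟩
  · have hset : Setup p x (s.erase R) T :=
      ⟨hcomp, hgrp, Finset.mem_erase.2 ⟨Ne.symm hRT, h.top_mem⟩,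
        fun Q hQ => h.le_top Q (Finset.mem_of_mem_erase hQ),
        fun Q hQ => h.normal Q (Finset.mem_of_mem_erase hQ), hxN⟩
    exact ⟨T, hset, by rw [hset.pivot_eq, hlow, hR', h.pivot_eq]⟩

/-- The toggle. -/
noncomputable def toggle (x : G) (s : Finset (Subgroup G)) : Finset (Subgroup G) :=
  if pivot x s ∈ s then s.erase (pivot x s) else insert (pivot x s) s

/-- For a nontrivial `p`-element only the chain `{⟨x⟩}` survives. -/
theorem sum_chains [Finite G] [Fact p.Prime] {R : Type*} [CommRing R]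
    (hx : ∃ k : ℕ, orderOf x = p ^ k) (hx1 : x ≠ 1) (C : Finset (Finset (Subgroup G)))
    (hC : ∀ s, s ∈ C ↔ s ∈ normalChains p G) (Ψ : Subgroup G → R) :
    ∑ s ∈ C with x ∈ chainNormalizer s, (-1 : R) ^ (s.card - 1)
        * Ψ (Subgroup.centralizer ({x} : Set G) ⊓ chainNormalizer s)
      = Ψ (Subgroup.centralizer ({x} : Set G)) := by
  set s₀ : Finset (Subgroup G) := {Subgroup.zpowers x} with hs₀
  have hN0 : Subgroup.centralizer ({x} : Set G) ≤ chainNormalizer s₀ := fun z hz =>
    mem_chainNormalizer.2 fun Q hQ => by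
      rw [hs₀, Finset.mem_singleton] at hQ
      subst hQ
      refine Subgroup.centralizer_le_normalizer _ ?_
      rwa [Subgroup.zpowers_eq_closure, Subgroup.centralizer_closure]
  have h0 : s₀ ∈ C.filter fun s => x ∈ chainNormalizer s := by
    refine Finset.mem_filter.2 ⟨(hC _).2 ?_, mem_chainNormalizer.2 fun Q hQ => ?_⟩
    · obtain ⟨k, hk⟩ := hx
      refine ⟨Finset.singleton_nonempty _, fun Q hQ Q' hQ' => ?_, fun Q hQ => ?_,
        _, Finset.mem_singleton_self _, fun Q hQ => ?_⟩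
      · rw [hs₀, Finset.mem_singleton] at hQ hQ'; exact Or.inl (hQ.trans hQ'.symm).le
      · rw [hs₀, Finset.mem_singleton] at hQ; subst hQ
        exact ⟨fun e => hx1 (Subgroup.zpowers_eq_bot.1 e),
          IsPGroup.of_card (n := k) (by rw [Nat.card_zpowers, hk])⟩
      · rw [hs₀, Finset.mem_singleton] at hQ; subst hQ
        exact ⟨le_rfl, Subgroup.le_normalizer⟩
    · rw [hs₀, Finset.mem_singleton] at hQ; subst hQ
      exact Subgroup.le_normalizer (Subgroup.mem_zpowers x)
  rw [← Finset.add_sum_erase _ _ h0, inf_eq_left.2 hN0, hs₀, Finset.card_singleton,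
    Nat.sub_self, pow_zero, one_mul, ← hs₀, add_eq_left]
  set D := (C.filter fun s => x ∈ chainNormalizer s).erase s₀ with hD
  have key : ∀ s ∈ D, toggle x s ∈ D ∧ toggle x (toggle x s) = s ∧ toggle x s ≠ s ∧
      ((-1 : R) ^ (s.card - 1) * Ψ (Subgroup.centralizer ({x} : Set G) ⊓ chainNormalizer s)
        + (-1 : R) ^ ((toggle x s).card - 1)
          * Ψ (Subgroup.centralizer ({x} : Set G) ⊓ chainNormalizer (toggle x s)) = 0) := by
    intro s hs
    obtain ⟨hne, hs'⟩ := Finset.mem_erase.1 hs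
    obtain ⟨hsC, hxs⟩ := Finset.mem_filter.1 hs'
    obtain ⟨T, hT⟩ := exists_setup ((hC s).1 hsC) hxs
    have hcard : 0 < s.card := Finset.card_pos.2 ⟨T, hT.top_mem⟩
    have mk : ∀ s' T', Setup p x s' T' → s' ≠ s₀ → s' ∈ D := fun s' T' h' hne' =>
      Finset.mem_erase.2 ⟨hne', Finset.mem_filter.2 ⟨(hC s').2 h'.mem_chains, h'.x_mem⟩⟩
    by_cases hR : pivot x s ∈ s
    · obtain ⟨T', hT', hp'⟩ := hT.erase_pivot hx1 hR hne
      have ht : toggle x s = s.erase (pivot x s) := if_pos hR
      have hn : pivot x s ∉ s.erase (pivot x s) := Finset.notMem_erase _ _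
      have hc' : 0 < (s.erase (pivot x s)).card := Finset.card_pos.2 ⟨T', hT'.top_mem⟩
      have hN : Subgroup.centralizer ({x} : Set G) ⊓ chainNormalizer s
          = Subgroup.centralizer ({x} : Set G) ⊓ chainNormalizer (s.erase (pivot x s)) := by
        conv_lhs => rw [← Finset.insert_erase hR, chainNormalizer_insert]
        rw [← inf_assoc, inf_comm (Subgroup.centralizer ({x} : Set G)), inf_assoc, inf_eq_right]
        have hle := hT'.inf_le_normalizer_pivot
        rwa [hp'] at hle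
      rw [ht]
      refine ⟨mk _ _ hT' fun e => ?_, ?_, fun e => hn (e.symm ▸ hR), ?_⟩
      · rw [e, hs₀, pivot_singleton x hx1] at hp'
        exact hn (by rw [e, ← hp', hs₀]; exact Finset.mem_singleton_self _)
      · rw [toggle, hp', if_neg hn, Finset.insert_erase hR]
      · rw [hN, ← add_mul, ← Finset.card_erase_add_one hR, Nat.add_sub_cancel]
        obtain ⟨m, hm⟩ := Nat.exists_eq_add_of_lt hc'
        rw [hm, zero_add, Nat.add_sub_cancel, pow_succ]
        ring
    · obtain ⟨T', hT', hp'⟩ := hT.insert_pivot hx hx1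
      have ht : toggle x s = insert (pivot x s) s := if_neg hR
      have hN : Subgroup.centralizer ({x} : Set G) ⊓ chainNormalizer (insert (pivot x s) s)
          = Subgroup.centralizer ({x} : Set G) ⊓ chainNormalizer s := by
        rw [chainNormalizer_insert, ← inf_assoc, inf_comm (Subgroup.centralizer ({x} : Set G)),
          inf_assoc, inf_eq_right]
        exact hT.inf_le_normalizer_pivot
      rw [ht]
      refine ⟨mk _ _ hT' fun e => ?_, ?_,
        fun e => hR (Finset.insert_eq_self.1 e), ?_⟩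
      · have := congrArg Finset.card e
        rw [Finset.card_insert_of_notMem hR, hs₀, Finset.card_singleton] at this
        omega
      · have hmem : pivot x (insert (pivot x s) s) ∈ insert (pivot x s) s := by
          rw [hp']; exact Finset.mem_insert_self _ _
        rw [toggle, if_pos hmem, hp', Finset.erase_insert hR]
      · rw [hN, Finset.card_insert_of_notMem hR, Nat.add_sub_cancel, ← add_mul]
        obtain ⟨m, hm⟩ := Nat.exists_eq_add_of_lt hcard
        rw [hm, zero_add, Nat.add_sub_cancel, pow_succ]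
        ring
  exact Finset.sum_involution (fun s _ => toggle x s) (fun s hs => (key s hs).2.2.2)
    (fun s hs _ => (key s hs).2.2.1) (fun s hs => (key s hs).1) (fun s hs => (key s hs).2.1)

end CfsgLib.PChains
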